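import Groth.Agent.FibCoord.Basic
import Groth.Agent.FlatMisc.RefinedNN
import Mathlib

/-!
# Coordinates adapted to a point of the fibre
-/

set_option autoImplicit false
set_option linter.style.haveILetI false

universe u

open MvPolynomial

namespace Groth.Agent.FibCoord

variable {R B : Type u} [CommRing R] [CommRing B] [Algebra R B] [Algebra.FiniteType R B]

/-- Transcendence degree is invariant in a tower with finite top. -/
theorem trdeg_eq_of_finite_factor {k F L : Type u} [Field k] [Field F] [Field L] [Algebra k F] [Algebra k L]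
    (j : F →ₐ[k] L) (h : ∃ (Z : Type u) (_ : Field Z) (a : Z →+* F) (b : Z →+* L),
      j.toRingHom.comp a = b ∧ b.Finite) :
    Algebra.trdeg k F = Algebra.trdeg k L := by
  obtain ⟨Z, _, a, b, hab, hb⟩ := h
  have hj : j.toRingHom.Finite := RingHom.Finite.of_comp_finite (hab ▸ hb : (j.toRingHom.comp a).Finite)
  letI : Algebra F L := j.toRingHom.toAlgebra
  haveI : IsScalarTower k F L := IsScalarTower.of_algebraMap_eq' j.comp_algebraMap.symm
  haveI : Module.Finite F L := hj
  haveI : Algebra.IsAlgebraic F L := Algebra.IsAlgebraic.of_finite F L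
  haveI : FaithfulSMul k F := (faithfulSMul_iff_algebraMap_injective _ _).2 (algebraMap k F).injective
  haveI : FaithfulSMul F L := (faithfulSMul_iff_algebraMap_injective _ _).2 (algebraMap F L).injective
  have h := trdeg_add_eq k F (A := L)
  rwa [trdeg_eq_zero (R := F) (A := L), add_zero] at h

theorem exists_aeval {k : Type u} [Field k] {n : ℕ} (v : Fin n → MvPolynomial (Fin n) k) :
    ∃ f : MvPolynomial (Fin n) k →ₐ[k] MvPolynomial (Fin n) k, ∀ i, f (X i) = v i :=
  ⟨aeval v, fun i => aeval_X v i⟩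

/-- Rescaling of the coordinates. -/
theorem exists_scale {k : Type u} [Field k] {n : ℕ} (r : ℕ) (c : Fin n → k) (hc : ∀ i, c i ≠ 0) :
    ∃ sc : MvPolynomial (Fin n) k →ₐ[k] MvPolynomial (Fin n) k,
      (∀ i, sc (X i) = C (c i) * X i) ∧ Function.Surjective sc ∧
      (Ideal.span (Set.range fun i : {i : Fin n // r ≤ (i : ℕ)} => (X (i : Fin n) : MvPolynomial (Fin n) k))).comap sc =
        Ideal.span (Set.range fun i : {i : Fin n // r ≤ (i : ℕ)} => (X (i : Fin n) : MvPolynomial (Fin n) k)) := by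
  obtain ⟨sc, hsc⟩ : ∃ f : MvPolynomial (Fin n) k →ₐ[k] MvPolynomial (Fin n) k, ∀ i, f (X i) = C (c i) * X i :=
    exists_aeval _
  obtain ⟨sc', hsc'⟩ : ∃ f : MvPolynomial (Fin n) k →ₐ[k] MvPolynomial (Fin n) k, ∀ i, f (X i) = C (c i)⁻¹ * X i :=
    exists_aeval _
  have h1 : sc.comp sc' = AlgHom.id k _ := by
    refine MvPolynomial.algHom_ext fun i => ?_
    rw [AlgHom.comp_apply, hsc', map_mul, algHom_C, hsc, algebraMap_eq, ← mul_assoc, ← map_mul,
      inv_mul_cancel₀ (hc i), map_one, one_mul, AlgHom.id_apply]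
  have h2 : sc'.comp sc = AlgHom.id k _ := by
    refine MvPolynomial.algHom_ext fun i => ?_
    rw [AlgHom.comp_apply, hsc, map_mul, algHom_C, hsc', algebraMap_eq, ← mul_assoc, ← map_mul,
      mul_inv_cancel₀ (hc i), map_one, one_mul, AlgHom.id_apply]
  have hle : ∀ (f : MvPolynomial (Fin n) k →ₐ[k] MvPolynomial (Fin n) k) (d : Fin n → k),
      (∀ i, f (X i) = C (d i) * X i) →
      Ideal.span (Set.range fun i : {i : Fin n // r ≤ (i : ℕ)} => (X (i : Fin n) : MvPolynomial (Fin n) k)) ≤
        (Ideal.span (Set.range fun i : {i : Fin n // r ≤ (i : ℕ)} => (X (i : Fin n) : MvPolynomial (Fin n) k))).comap f := by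
    intro f d hf
    rw [Ideal.span_le]
    rintro _ ⟨⟨i, hi⟩, rfl⟩
    rw [SetLike.mem_coe, Ideal.mem_comap, hf]
    exact Ideal.mul_mem_left _ _ (Ideal.subset_span ⟨⟨i, hi⟩, rfl⟩)
  refine ⟨sc, hsc, fun x => ⟨sc' x, AlgHom.congr_fun h1 x⟩, le_antisymm (fun G hG => ?_) (hle sc c hsc)⟩
  have h3 : sc' (sc G) = G := AlgHom.congr_fun h2 G
  rw [← h3]
  exact hle sc' _ hsc' hG

/-- Clearing denominators: an endomorphism of affine space over the residue field lifts to the base
after rescaling the coordinates. -/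
theorem exists_lift (p : Ideal R) [p.IsPrime] (n r : ℕ)
    (θ : MvPolynomial (Fin n) p.ResidueField →ₐ[p.ResidueField] MvPolynomial (Fin n) p.ResidueField)
    (hθ : θ.toRingHom.Finite) (Pκ : Ideal (MvPolynomial (Fin n) p.ResidueField))
    (hθP : Pκ.comap θ = Ideal.span (Set.range fun i : {i : Fin n // r ≤ (i : ℕ)} =>
      (X (i : Fin n) : MvPolynomial (Fin n) p.ResidueField))) :
    ∃ (ψ : MvPolynomial (Fin n) R →ₐ[R] MvPolynomial (Fin n) R)
      (θ' : MvPolynomial (Fin n) p.ResidueField →+* MvPolynomial (Fin n) p.ResidueField),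
      θ'.Finite ∧ (∀ G, red p (ψ G) = θ' (red p G)) ∧
      Pκ.comap θ' = Ideal.span (Set.range fun i : {i : Fin n // r ≤ (i : ℕ)} =>
        (X (i : Fin n) : MvPolynomial (Fin n) p.ResidueField)) := by
  choose s hs t ht using fun i => FibDim.exists_C_mul_mem_range p (θ (X i))
  obtain ⟨sc, hsc, hsur, hK⟩ := exists_scale r (fun i => algebraMap R p.ResidueField (s i))
    fun i h => hs i (Ideal.algebraMap_residueField_eq_zero.1 h)
  refine ⟨aeval t, θ.toRingHom.comp sc.toRingHom,
    hθ.comp (RingHom.Finite.of_surjective sc.toRingHom hsur), ?_, ?_⟩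
  · have : (red p).comp (aeval (R := R) t).toRingHom = (θ.toRingHom.comp sc.toRingHom).comp (red p) := by
      refine MvPolynomial.ringHom_ext (fun a => ?_) (fun i => ?_)
      · show red p (aeval t (C a)) = θ (sc (red p (C a)))
        rw [algHom_C, algebraMap_eq, red, map_C, algHom_C, algebraMap_eq, algHom_C, algebraMap_eq]
      · show red p (aeval t (X i)) = θ (sc (red p (X i)))
        rw [aeval_X, show red p (X i) = X i from map_X _ _, hsc, map_mul, algHom_C, algebraMap_eq]
        exact (ht i).symm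
    exact fun G => RingHom.congr_fun this G
  · rw [← hK]
    conv_rhs => rw [← hθP]
    rfl

/-- The point of affine space over the residue field under a point of the source. -/
theorem exists_point (p : Ideal R) [p.IsPrime] (q : Ideal B) [q.IsPrime] [q.LiesOver p]
    [Algebra (Localization.AtPrime p) (Localization.AtPrime q)] [Localization.AtPrime.IsLiesOverAlgebra p q]
    (n r : ℕ) (φ : MvPolynomial (Fin n) R →ₐ[R] B) (hqf : φ.toRingHom.QuasiFinite)
    (hr : Algebra.trdeg p.ResidueField q.ResidueField = r) :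
    ∃ (Pκ : Ideal (MvPolynomial (Fin n) p.ResidueField)) (_ : Pκ.IsPrime),
      (∀ G, φ G ∈ q ↔ red p G ∈ Pκ) ∧ Algebra.trdeg p.ResidueField Pκ.ResidueField = r := by
  let ev : MvPolynomial (Fin n) p.ResidueField →ₐ[p.ResidueField] q.ResidueField :=
    aeval fun i => algebraMap B q.ResidueField (φ (X i))
  have hev : ∀ G, ev (red p G) = algebraMap B q.ResidueField (φ G) := by
    have : ev.toRingHom.comp (red p) = (algebraMap B q.ResidueField).comp φ.toRingHom := by
      refine MvPolynomial.ringHom_ext (fun a => ?_) (fun i => ?_)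
      · show ev (red p (C a)) = algebraMap B q.ResidueField (φ (C a))
        rw [red, map_C, ← algebraMap_eq, AlgHom.commutes, ← algebraMap_eq, AlgHom.commutes,
          ← IsScalarTower.algebraMap_apply R p.ResidueField q.ResidueField,
          ← IsScalarTower.algebraMap_apply R B q.ResidueField]
      · show ev (red p (X i)) = algebraMap B q.ResidueField (φ (X i))
        simp [red, ev]
    exact fun G => RingHom.congr_fun this G
  let Pκ := RingHom.ker ev
  haveI : Pκ.IsPrime := RingHom.ker_isPrime ev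
  have hmem : ∀ G, φ G ∈ q ↔ red p G ∈ Pκ := fun G => by
    rw [← Ideal.algebraMap_residueField_eq_zero, ← hev]; rfl
  refine ⟨Pκ, inferInstance, hmem, ?_⟩
  have hunit : Pκ.primeCompl ≤ (IsUnit.submonoid q.ResidueField).comap ev := fun a ha =>
    isUnit_iff_ne_zero.2 fun h => ha (show ev a = 0 from h)
  let z : Ideal (MvPolynomial (Fin n) R) := q.comap φ.toRingHom
  have hz : z = Pκ.comap (red p) := Ideal.ext hmem
  refine (trdeg_eq_of_finite_factor (Ideal.ResidueField.liftₐ Pκ ev le_rfl hunit) ?_).trans hr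
  letI : Algebra (MvPolynomial (Fin n) R) B := φ.toRingHom.toAlgebra
  haveI : Algebra.QuasiFinite (MvPolynomial (Fin n) R) B := hqf
  haveI : q.LiesOver z := ⟨rfl⟩
  letI := Localization.AtPrime.algebraOfLiesOver z q
  refine ⟨z.ResidueField, inferInstance, Ideal.ResidueField.map z Pκ (red p) hz,
    algebraMap z.ResidueField q.ResidueField, ?_, RingHom.finite_algebraMap.2 inferInstance⟩
  refine Ideal.ResidueField.ringHom_ext (RingHom.ext fun G => ?_)
  show Ideal.ResidueField.liftₐ Pκ ev le_rfl hunit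
      (Ideal.ResidueField.map z Pκ (red p) hz (algebraMap (MvPolynomial (Fin n) R) z.ResidueField G)) =
    algebraMap z.ResidueField q.ResidueField (algebraMap (MvPolynomial (Fin n) R) z.ResidueField G)
  rw [← IsScalarTower.algebraMap_apply (MvPolynomial (Fin n) R) z.ResidueField q.ResidueField,
    IsScalarTower.algebraMap_apply (MvPolynomial (Fin n) R) B q.ResidueField]
  exact ((congrArg _ (Ideal.ResidueField.map_algebraMap _ _ _ _ G)).trans
    (Ideal.ResidueField.liftₐ_algebraMap Pκ ev le_rfl hunit (red p G))).trans (hev G)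

/-- A finite ring map has finite fibres on spectra. -/
theorem finite_preimage_of_finite {A C : Type u} [CommRing A] [CommRing C] (f : A →+* C) (hf : f.Finite)
    (K : PrimeSpectrum A) : (PrimeSpectrum.comap f ⁻¹' {K}).Finite := by
  algebraize [f]
  exact Algebra.QuasiFinite.finite_comap_preimage_singleton (R := A) (S := C) K

/-- Finiteness of a fibre of the lifted coordinate change. -/
theorem finite_fibre (p : Ideal R) [p.IsPrime] (n : ℕ)
    (ψ : MvPolynomial (Fin n) R →ₐ[R] MvPolynomial (Fin n) R)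
    (θ' : MvPolynomial (Fin n) p.ResidueField →+* MvPolynomial (Fin n) p.ResidueField) (hθ' : θ'.Finite)
    (hψ : ∀ G, red p (ψ G) = θ' (red p G)) (K : PrimeSpectrum (MvPolynomial (Fin n) p.ResidueField))
    (y : PrimeSpectrum (MvPolynomial (Fin n) R)) (hy : ∀ G, G ∈ y.asIdeal ↔ red p G ∈ K.asIdeal)
    (hyp : y.asIdeal.comap (algebraMap R (MvPolynomial (Fin n) R)) = p) :
    (PrimeSpectrum.comap ψ.toRingHom ⁻¹' {y}).Finite := by
  have hsub : PrimeSpectrum.comap ψ.toRingHom ⁻¹' {y} ⊆
      PrimeSpectrum.comap (red p) '' (PrimeSpectrum.comap θ' ⁻¹' {K}) := by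
    intro w hw
    have hw' : w.asIdeal.comap ψ = y.asIdeal := congrArg PrimeSpectrum.asIdeal hw
    have hwp : w.asIdeal.comap (algebraMap R (MvPolynomial (Fin n) R)) = p := by
      rw [← hyp, ← hw']
      ext a
      simp
    obtain ⟨Z, hZ, hZw⟩ := exists_prime p w.asIdeal hwp
    refine ⟨⟨Z, hZ⟩, PrimeSpectrum.ext (eq_of_comap_eq p ?_), PrimeSpectrum.ext hZw⟩
    ext G
    show θ' (red p G) ∈ Z ↔ red p G ∈ K.asIdeal
    rw [← hy, ← hψ, ← hw', ← hZw]
    rfl
  refine Set.Finite.subset (Set.Finite.image _ ?_) hsub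
  exact finite_preimage_of_finite θ' hθ' K

/-- A map of finite type with a finite fibre is quasi-finite at the points of that fibre. -/
theorem quasiFiniteAt_of_finite {P B : Type u} [CommRing P] [CommRing B] (η : P →+* B) (hη : η.FiniteType)
    (q : Ideal B) [q.IsPrime]
    (h : (PrimeSpectrum.comap η ⁻¹' {PrimeSpectrum.comap η ⟨q, inferInstance⟩}).Finite) :
    η.QuasiFiniteAt q := by
  algebraize [η]
  let x : PrimeSpectrum B := ⟨q, inferInstance⟩
  let y := PrimeSpectrum.comap (algebraMap P B) x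
  let X₁ : Set (PrimeSpectrum B) := PrimeSpectrum.comap (algebraMap P B) ⁻¹' {y}
  haveI : IsJacobsonRing (y.asIdeal.Fiber B) := isJacobsonRing_of_finiteType (A := y.asIdeal.ResidueField)
  haveI : Finite X₁ := h
  haveI : Finite (PrimeSpectrum (y.asIdeal.Fiber B)) := Finite.of_equiv _ (PrimeSpectrum.preimageEquivFiber P B y)
  haveI : DiscreteTopology X₁ := DiscreteTopology.of_continuous_injective
    (PrimeSpectrum.preimageHomeomorphFiber P B y).continuous (PrimeSpectrum.preimageHomeomorphFiber P B y).injective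
  exact Algebra.QuasiFiniteAt.of_isOpen_singleton_fiber x (isOpen_discrete (α := X₁) _)

theorem exists_adapted (p : Ideal R) [p.IsPrime] (q : Ideal B) [q.IsPrime] [q.LiesOver p]
    [Algebra (Localization.AtPrime p) (Localization.AtPrime q)] [Localization.AtPrime.IsLiesOverAlgebra p q]
    (n r : ℕ) (φ : MvPolynomial (Fin n) R →ₐ[R] B) (hqf : φ.toRingHom.QuasiFinite)
    (hr : Algebra.trdeg p.ResidueField q.ResidueField = r) :
    ∃ ψ : MvPolynomial (Fin n) R →ₐ[R] MvPolynomial (Fin n) R,
      q.comap (φ.comp ψ) = p.map (algebraMap R (MvPolynomial (Fin n) R)) ⊔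
        Ideal.span (Set.range fun i : {i : Fin n // r ≤ (i : ℕ)} => (X (i : Fin n) : MvPolynomial (Fin n) R)) ∧
      (φ.comp ψ).toRingHom.QuasiFiniteAt q := by
  obtain ⟨Pκ, _, hPκ, htr⟩ := exists_point p q n r φ hqf hr
  obtain ⟨θ, hθ, hθP⟩ := FlatMisc.RefinedNN.exists_refined_normalization n r Pκ htr
  obtain ⟨ψ, θ', hθ', hψ, hθ'P⟩ := exists_lift p n r θ hθ Pκ hθP
  have hmem : ∀ G, G ∈ q.comap (φ.comp ψ) ↔ red p G ∈ Ideal.span (Set.range fun i : {i : Fin n // r ≤ (i : ℕ)} =>
      (X (i : Fin n) : MvPolynomial (Fin n) p.ResidueField)) := fun G => by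
    rw [Ideal.mem_comap, AlgHom.comp_apply, hPκ, hψ, ← hθ'P]
    rfl
  have hqp : (q.comap (φ.comp ψ)).comap (algebraMap R (MvPolynomial (Fin n) R)) = p := by
    rw [Ideal.LiesOver.over (P := q) (p := p)]
    ext a
    simp
  refine ⟨ψ, le_antisymm (fun G hG => mem_of_red_mem p G ((hmem G).1 hG)) (sup_le ?_ ?_), ?_⟩
  · rw [Ideal.map_le_iff_le_comap, hqp]
  · rw [Ideal.span_le]
    rintro _ ⟨⟨i, hi⟩, rfl⟩
    refine (hmem _).2 ?_
    rw [show red p (X i) = X i from map_X _ _]
    exact Ideal.subset_span ⟨⟨i, hi⟩, rfl⟩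
  have hKp : (Ideal.span (Set.range fun i : {i : Fin n // r ≤ (i : ℕ)} =>
      (X (i : Fin n) : MvPolynomial (Fin n) p.ResidueField))).IsPrime := hθ'P ▸ Ideal.IsPrime.comap θ'
  have hft : (φ.comp ψ).toRingHom.FiniteType := by
    refine RingHom.FiniteType.of_comp_finiteType (f := algebraMap R (MvPolynomial (Fin n) R)) ?_
    rw [show (φ.comp ψ).toRingHom.comp (algebraMap R (MvPolynomial (Fin n) R)) = algebraMap R B from
      (φ.comp ψ).comp_algebraMap]
    exact RingHom.finiteType_algebraMap.2 inferInstance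
  refine quasiFiniteAt_of_finite _ hft q ?_
  have hψfin := finite_fibre p n ψ θ' hθ' hψ ⟨_, hKp⟩
    (PrimeSpectrum.comap (φ.comp ψ).toRingHom ⟨q, inferInstance⟩) hmem hqp
  have hφfin : ∀ w, (PrimeSpectrum.comap φ.toRingHom ⁻¹' {w}).Finite := by
    intro w
    letI : Algebra (MvPolynomial (Fin n) R) B := φ.toRingHom.toAlgebra
    haveI : Algebra.QuasiFinite (MvPolynomial (Fin n) R) B := hqf
    exact Algebra.QuasiFinite.finite_comap_preimage_singleton (R := MvPolynomial (Fin n) R) (S := B) w
  refine (hψfin.biUnion fun w _ => hφfin w).subset fun z hz => ?_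
  refine Set.mem_biUnion (x := PrimeSpectrum.comap φ.toRingHom z) ?_ rfl
  show PrimeSpectrum.comap ψ.toRingHom _ = _
  rw [← Set.mem_singleton_iff.1 hz]
  rfl

end Groth.Agent.FibCoord
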