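import Groth.Agent.FibDim.Alg
import Mathlib

/-!
# Coordinates on the fibre of a finite type algebra
-/

set_option autoImplicit false
set_option linter.style.haveILetI false

universe u

open MvPolynomial

namespace Groth.Agent.FibCoord

variable {R : Type u} [CommRing R] (p : Ideal R) [p.IsPrime] {σ : Type} [Finite σ]

/-- Reduction of the coefficients into the residue field. -/
noncomputable abbrev red : MvPolynomial σ R →+* MvPolynomial σ p.ResidueField :=
  MvPolynomial.map (algebraMap R p.ResidueField)

omit [Finite σ] in
/-- Ideals of polynomials over the residue field are determined by their contraction. -/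
theorem le_of_comap_le {I J : Ideal (MvPolynomial σ p.ResidueField)}
    (h : I.comap (red p) ≤ J.comap (red p)) : I ≤ J := by
  intro G hG
  obtain ⟨s, hs, H, hH⟩ := FibDim.exists_C_mul_mem_range p G
  have hu : IsUnit (C (σ := σ) (algebraMap R p.ResidueField s)) :=
    (isUnit_iff_ne_zero.2 fun h => hs (Ideal.algebraMap_residueField_eq_zero.1 h)).map C
  have hmem : H ∈ I.comap (red p) := by
    show MvPolynomial.map (algebraMap R p.ResidueField) H ∈ I
    rw [← hH]
    exact I.mul_mem_left _ hG
  have h2 : MvPolynomial.map (algebraMap R p.ResidueField) H ∈ J := h hmem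
  rw [← hH] at h2
  exact (Ideal.unit_mul_mem_iff_mem J hu).1 h2

omit [Finite σ] in
theorem eq_of_comap_eq {I J : Ideal (MvPolynomial σ p.ResidueField)}
    (h : I.comap (red p) = J.comap (red p)) : I = J :=
  le_antisymm (le_of_comap_le p h.le) (le_of_comap_le p h.ge)

omit [Finite σ] in
/-- A prime over `p` is the contraction of a prime of the fibre. -/
theorem exists_prime (z : Ideal (MvPolynomial σ R)) [z.IsPrime] (hz : z.comap (algebraMap R _) = p) :
    ∃ Z : Ideal (MvPolynomial σ p.ResidueField), Z.IsPrime ∧ Z.comap (red p) = z := by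
  let j : p.ResidueField →+* z.ResidueField :=
    (Ideal.ResidueField.mapₐ p z (Algebra.ofId R _) hz.symm).toRingHom
  let ev : MvPolynomial σ p.ResidueField →+* z.ResidueField :=
    eval₂Hom j fun i => algebraMap (MvPolynomial σ R) _ (X i)
  refine ⟨RingHom.ker ev, RingHom.ker_isPrime ev, ?_⟩
  have hcomp : ev.comp (red p) = algebraMap (MvPolynomial σ R) z.ResidueField := by
    refine MvPolynomial.ringHom_ext (fun r => ?_) (fun i => ?_)
    · simp only [RingHom.comp_apply, red, map_C, ev, eval₂Hom_C]
      show Ideal.ResidueField.mapₐ p z (Algebra.ofId R _) hz.symm (algebraMap R _ r) = _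
      rw [AlgHom.commutes, IsScalarTower.algebraMap_apply R (MvPolynomial σ R) z.ResidueField, algebraMap_eq]
    · simp [red, ev]
  ext F
  show ev (red p F) = 0 ↔ F ∈ z
  rw [← RingHom.comp_apply, hcomp, Ideal.algebraMap_residueField_eq_zero]

omit [Finite σ] in
/-- The coordinate subspace, as seen over the base. -/
theorem mem_of_red_mem {n r : ℕ} (F : MvPolynomial (Fin n) R)
    (hF : red p F ∈ Ideal.span (Set.range fun i : {i : Fin n // r ≤ (i : ℕ)} => X (i : Fin n))) :
    F ∈ p.map (algebraMap R (MvPolynomial (Fin n) R)) ⊔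
      Ideal.span (Set.range fun i : {i : Fin n // r ≤ (i : ℕ)} => (X (i : Fin n) : MvPolynomial (Fin n) R)) := by
  classical
  let v : Fin n → MvPolynomial (Fin n) R := fun i => if r ≤ (i : ℕ) then 0 else X i
  let w : Fin n → MvPolynomial (Fin n) p.ResidueField := fun i => if r ≤ (i : ℕ) then 0 else X i
  let kill : MvPolynomial (Fin n) R →ₐ[R] MvPolynomial (Fin n) R := aeval v
  let K := Ideal.span (Set.range fun i : {i : Fin n // r ≤ (i : ℕ)} => (X (i : Fin n) : MvPolynomial (Fin n) R))
  have hsub : ∀ G, G - kill G ∈ K := by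
    intro G
    induction G using MvPolynomial.induction_on with
    | C a => simp [kill]
    | add a b ha hb => rw [map_add, add_sub_add_comm]; exact add_mem ha hb
    | mul_X a i ha =>
      rw [map_mul]
      by_cases hi : r ≤ (i : ℕ)
      · rw [show kill (X i) = 0 by simp [kill, v, hi], mul_zero, sub_zero]
        exact Ideal.mul_mem_left _ _ (Ideal.subset_span ⟨⟨i, hi⟩, rfl⟩)
      · rw [show kill (X i) = X i by simp [kill, v, hi], ← sub_mul]
        exact Ideal.mul_mem_right _ _ ha
  have hred : ∀ G, red p (kill G) = aeval w (red p G) := by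
    intro G
    induction G using MvPolynomial.induction_on with
    | C a => simp [red, kill]
    | add a b ha hb => simp only [map_add, ha, hb]
    | mul_X a i ha =>
      simp only [map_mul, ha, red, map_X, aeval_X, kill]
      congr 1
      by_cases hi : r ≤ (i : ℕ) <;> simp [v, w, hi]
  have hzero : aeval w (red p F) = 0 := by
    refine (Ideal.span_le.2 ?_ : _ ≤ RingHom.ker (aeval (R := p.ResidueField) w)) hF
    rintro _ ⟨⟨i, hi⟩, rfl⟩
    simp [w, hi]
  have hk : kill F ∈ p.map (algebraMap R (MvPolynomial (Fin n) R)) := by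
    rw [algebraMap_eq, mem_map_C_iff]
    intro m
    have h1 := congrArg (coeff m) ((hred F).trans hzero)
    rw [coeff_map, coeff_zero] at h1
    exact Ideal.algebraMap_residueField_eq_zero.1 h1
  rw [← add_sub_cancel (kill F) F]
  exact add_mem (Ideal.mem_sup_left hk) (Ideal.mem_sup_right (hsub F))

/-- An algebra quasi-finite at every prime is quasi-finite. -/
theorem quasiFinite_of_forall {A B : Type u} [CommRing A] [CommRing B] [Algebra A B] [Algebra.FiniteType A B]
    (h : ∀ z : PrimeSpectrum B, Algebra.QuasiFiniteAt A z.asIdeal) : Algebra.QuasiFinite A B := by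
  refine Algebra.QuasiFinite.iff_finite_comap_preimage_singleton.2 fun y => ?_
  let X := PrimeSpectrum.comap (algebraMap A B) ⁻¹' {y}
  haveI : DiscreteTopology X := discreteTopology_iff_isOpen_singleton.2 fun z => by
    obtain ⟨z, hz⟩ := z
    obtain rfl : PrimeSpectrum.comap (algebraMap A B) z = y := hz
    exact (Algebra.quasiFiniteAt_iff_isOpen_singleton_fiber z).1 (h z)
  haveI : CompactSpace X := (PrimeSpectrum.preimageHomeomorphFiber A B y).symm.compactSpace
  exact Set.finite_coe_iff.1 (finite_of_compact_of_discrete (X := X))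

end Groth.Agent.FibCoord
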